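import Cfsg.Agent.Lib.Chevalley.CT.Main
import Cfsg.Prelude.Def_CurtisTits

/-!
The isomorphism of the Curtis–Tits group with Steinberg's group.
-/

set_option autoImplicit false

namespace Cfsg.Agent.Chevalley.CT

open Cfsg.Lie Cfsg.Agent.Chevalley.Table Cfsg.Agent.Chevalley.Check Cfsg.Agent.Chevalley.Cert
  Cfsg.Agent.Chevalley.Group Cfsg.Agent.Chevalley.Unip Cfsg.Agent.Chevalley.StUnip

variable {D : ChevalleyDatum} {F : Type*} [Field F] {T : Tab}

theorem sub_iff (i j r : ℕ) :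
    D.InRankTwoSub i j r ↔ i < D.rank ∧ j < D.rank ∧ D.InRootSub {i, j} r := by
  constructor
  · rintro ⟨hr, hi, hj, h⟩
    refine ⟨hi, hj, hr, fun k hk hkJ => h k hk (fun e => hkJ (Or.inl e)) fun e => hkJ (Or.inr e)⟩
  · rintro ⟨hi, hj, hr, h⟩
    refine ⟨hr, hi, hj, fun k hk h1 h2 => h k hk ?_⟩
    rintro (rfl | e)
    exacts [h1 rfl, h2 e]

/-- The images of the generators in the Chevalley group. -/
noncomputable def ctImg (hC : Certified D T) (x : Fin D.nroots × F) : GL D.Idx F := by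
  classical exact if Low D x.1 then xg hC x.1 x.2 else 1

/-- The given root elements. -/
def ctX (D : ChevalleyDatum) (F : Type*) [Field F] (r : ℕ) (t : F) : D.CurtisTitsGroup F :=
  PresentedGroup.mk (D.curtisTitsRels F) (D.stX r t)

theorem lift_low (hC : Certified D T) {r : ℕ} (h : Low D r) (t : F) :
    FreeGroup.lift (ctImg hC) (D.stX r t) = xg hC r t := by
  simp [ChevalleyDatum.stX, h.lt, ctImg, h]

theorem lift_not_low (hC : Certified D T) {r : ℕ} (h : ¬ Low D r) (t : F) :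
    FreeGroup.lift (ctImg hC) (D.stX r t) = 1 := by
  rw [ChevalleyDatum.stX]
  split_ifs with hr
  · simp [ctImg, h]
  · exact map_one _

theorem lift_ct (hC : Certified D T) {N : List (List ℤ)} (hN : Coef.coefChk T N = true) :
    ∀ w ∈ D.curtisTitsRels F, FreeGroup.lift (ctImg hC) w = 1 := by
  rintro w (((⟨r, t, hr, hno, rfl⟩ | ⟨i, j, r, a, b, hr, rfl⟩) |
    ⟨i, j, r, s, t, u, hr, hs, hne, hnn, rfl⟩) | ⟨i, j, r, a, b, hr, ha, hb', rfl⟩)
  · refine lift_not_low hC ?_ t
    rintro ⟨p, q, hp, hq, h⟩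
    exact hno p q ((sub_iff p q r).2 ⟨hp, hq, h⟩)
  · obtain ⟨hi, hj, h⟩ := (sub_iff i j r).1 hr
    simp only [map_mul, map_inv, lift_low hC ⟨i, j, hi, hj, h⟩, xg_add hC, mul_inv_cancel]
  · obtain ⟨hi, hj, hr'⟩ := (sub_iff i j r).1 hr
    obtain ⟨-, -, hs'⟩ := (sub_iff i j s).1 hs
    have hw : FreeGroup.lift (ctImg hC) (D.stWord (D.commWord F r s t u)) =
        ((D.commWord F r s t u).map fun p => xg hC p.1 p.2).prod := by
      rw [ChevalleyDatum.stWord, map_list_prod, List.map_map]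
      congr 1
      refine List.map_congr_left fun p hp => ?_
      simp only [ChevalleyDatum.commWord, List.mem_map] at hp
      obtain ⟨c, hc, rfl⟩ := hp
      exact lift_low hC ⟨i, j, hi, hj, inSub_commTerms hC hN hr' hs' c hc⟩ _
    simp only [map_mul, map_inv, lift_low hC ⟨i, j, hi, hj, hr'⟩, lift_low hC ⟨i, j, hi, hj, hs'⟩, hw]
    rw [mul_assoc _ (xg hC s u), xg_comm hC hr'.1 hs'.1 hne hnn]
    group
  · obtain ⟨hi, hj, hr'⟩ := (sub_iff i j r).1 hr
    have hl : Low D r := ⟨i, j, hi, hj, hr'⟩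
    have hh : ∀ c : F, FreeGroup.lift (ctImg hC) (D.stH r c) = hg hC r c := fun c => by
      simp [ChevalleyDatum.stH, ChevalleyDatum.stWord, ChevalleyDatum.hWord, ChevalleyDatum.nWord,
        lift_low hC hl, lift_low hC (hl.neg hC), hg, ng, mul_assoc]
    simp only [map_mul, map_inv, hh]
    rw [(SL2.rank1 hC hr'.1).H_mul a b ha hb', mul_inv_cancel]

theorem mk_stWord (w : List (ℕ × F)) :
    PresentedGroup.mk (D.curtisTitsRels F) (D.stWord w) = (w.map fun p => ctX D F p.1 p.2).prod := by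
  rw [ChevalleyDatum.stWord, map_list_prod, List.map_map]; rfl

theorem ctX_add {r : ℕ} (h : Low D r) (t u : F) : ctX D F r (t + u) = ctX D F r t * ctX D F r u := by
  obtain ⟨p, q, hp, hq, hr⟩ := h
  have h := PresentedGroup.one_of_mem (rels := D.curtisTitsRels F)
    (x := D.stX r t * D.stX r u * (D.stX r (t + u))⁻¹)
    (Or.inl (Or.inl (Or.inr ⟨p, q, r, t, u, (sub_iff p q r).2 ⟨hp, hq, hr⟩, rfl⟩)))
  rw [map_mul, map_mul, map_inv, mul_inv_eq_one] at h
  exact h.symm

theorem ctX_comm (p q : ℕ) (hp : p < D.rank) (hq : q < D.rank) (r s : ℕ) (hr : D.InRootSub {p, q} r)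
    (hs : D.InRootSub {p, q} s) (hne : s ≠ r) (hnn : s ≠ D.neg r) (t u : F) :
    ctX D F s u * ctX D F r t =
      ctX D F r t * ctX D F s u * ((D.commWord F r s t u).map fun c => ctX D F c.1 c.2).prod := by
  have h := PresentedGroup.one_of_mem (rels := D.curtisTitsRels F)
    (x := (D.stX s u)⁻¹ * (D.stX r t)⁻¹ * D.stX s u * D.stX r t * (D.stWord (D.commWord F r s t u))⁻¹)
    (Or.inl (Or.inr ⟨p, q, r, s, t, u, (sub_iff p q r).2 ⟨hp, hq, hr⟩,
      (sub_iff p q s).2 ⟨hp, hq, hs⟩, hne, hnn, rfl⟩))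
  rw [map_mul, map_inv, mul_inv_eq_one, mk_stWord] at h
  rw [← h]
  simp only [ctX, map_mul, map_inv]
  group

theorem ctX_not_low {r : ℕ} (hr : r < D.nroots) (h : ¬ Low D r) (t : F) : ctX D F r t = 1 := by
  refine PresentedGroup.one_of_mem (Or.inl (Or.inl (Or.inl ⟨r, t, hr, fun i j hij => h ?_, rfl⟩)))
  obtain ⟨hi, hj, h'⟩ := (sub_iff i j r).1 hij
  exact ⟨i, j, hi, hj, h'⟩

theorem of_eq_ctX (r : Fin D.nroots) (t : F) :
    (PresentedGroup.of (r, t) : D.CurtisTitsGroup F) = ctX D F r t := by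
  simp [ctX, ChevalleyDatum.stX, r.2]; rfl

theorem of_eq_stGen (r : Fin D.nroots) (t : F) :
    (PresentedGroup.of (r, t) : D.SteinbergGroup F) = D.stGen F r t := by
  simp [ChevalleyDatum.stGen, ChevalleyDatum.stX, r.2]; rfl

/-- The system of the Curtis–Tits group. -/
noncomputable def ctSys (hC : Certified D T) {N : List (List ℤ)} (hN : Coef.coefChk T N = true) :
    CSys hC F (D.CurtisTitsGroup F) where
  X := ctX D F
  th := PresentedGroup.toGroup (lift_ct hC hN)
  th_X r h t := by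
    rw [show ctX D F r t = PresentedGroup.of ((⟨r, h.lt⟩, t) : Fin D.nroots × F) from
      (of_eq_ctX ⟨r, h.lt⟩ t).symm, PresentedGroup.toGroup.of]
    simp [ctImg, h]
  add _ h := ctX_add h
  comm := ctX_comm

/-- The isomorphism. -/
theorem exists_iso (hC : Certified D T) (hK : CTCerts T) (hT : StKernel.HasCerts T) :
    ∃ e : D.CurtisTitsGroup F ≃* D.SteinbergGroup F,
      ∀ r, Low D r → ∀ t : F, e (ctX D F r t) = D.stGen F r t := by
  classical
  obtain ⟨N, hN⟩ := hK.key.coef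
  obtain ⟨S, hS⟩ : ∃ S : CSys hC F (D.CurtisTitsGroup F), S = ctSys hC hN := ⟨_, rfl⟩
  have hX : S.X = ctX D F := hS ▸ rfl
  have hR3 : ∀ i < D.rank, ∀ a b : F, a ≠ 0 → b ≠ 0 →
      hb S (D.simple i) a * hb S (D.simple i) b = hb S (D.simple i) (a * b) := by
    intro i hi a b ha hb'
    have hh : ∀ c : F, hb S (D.simple i) c =
        PresentedGroup.mk (D.curtisTitsRels F) (D.stH (D.simple i) c) := fun c => by
      simp [hb, nb, hX, ChevalleyDatum.stH, mk_stWord, ChevalleyDatum.hWord, ChevalleyDatum.nWord,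
        mul_assoc]
    simp only [hh]
    rw [← map_mul, ← mul_inv_eq_one, ← map_inv, ← map_mul]
    exact PresentedGroup.one_of_mem (Or.inr ⟨i, i, _, a, b, (sub_iff i i _).2
      ⟨hi, hi, (Parabolic.simple_inRootSub hC hi (Set.mem_insert i _)).1⟩, ha, hb', rfl⟩)
  -- from Steinberg's group
  have hrels : ∀ w ∈ D.steinbergRels F,
      FreeGroup.lift (fun x : Fin D.nroots × F => Xf S x.1 x.2) w = 1 := by
    have hl : ∀ r < D.nroots, ∀ t : F,
        FreeGroup.lift (fun x : Fin D.nroots × F => Xf S x.1 x.2) (D.stX r t) = Xf S r t :=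
      fun r hr t => by simp [ChevalleyDatum.stX, hr]
    rintro w ((⟨r, a, b, hr, rfl⟩ | ⟨r, s, t, u, hr, hs, hne, hnn, rfl⟩) | ⟨r, a, b, hr, ha, hb', rfl⟩)
    · simp only [map_mul, map_inv, hl r hr, Xf_add S hK.key hr, mul_inv_cancel]
    · have hw : FreeGroup.lift (fun x : Fin D.nroots × F => Xf S x.1 x.2)
          (D.stWord (D.commWord F r s t u)) =
          ((D.commWord F r s t u).map fun p => Xf S p.1 p.2).prod := by
        rw [ChevalleyDatum.stWord, map_list_prod, List.map_map]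
        congr 1
        refine List.map_congr_left fun p hp => ?_
        simp only [ChevalleyDatum.commWord, List.mem_map] at hp
        obtain ⟨c, hc, rfl⟩ := hp
        exact hl _ (Relations.commTerms_lt hC hr hs c hc) _
      simp only [map_mul, map_inv, hl r hr, hl s hs, hw]
      rw [mul_assoc _ (Xf S s u), Xf_comm S hK.key hK.word hr hs hne hnn]
      group
    · have hh : ∀ c : F, FreeGroup.lift (fun x : Fin D.nroots × F => Xf S x.1 x.2) (D.stH r c) =
          nbf S r c * nbf S r (-1) := fun c => by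
        simp [ChevalleyDatum.stH, ChevalleyDatum.stWord, ChevalleyDatum.hWord, ChevalleyDatum.nWord,
          hl r hr, hl _ (hC.neg_lt hr), nbf, mul_assoc]
      simp only [map_mul, map_inv, hh]
      rw [Xf_h_mul S hK.key hR3 hr ha hb', mul_inv_cancel]
  obtain ⟨φ, hφ⟩ : ∃ φ : D.SteinbergGroup F →* D.CurtisTitsGroup F,
      ∀ r < D.nroots, ∀ t, φ (D.stGen F r t) = Xf S r t :=
    ⟨PresentedGroup.toGroup hrels, fun r hr t => by
      rw [show D.stGen F r t = D.stGen F ((⟨r, hr⟩ : Fin D.nroots) : ℕ) t from rfl, ← of_eq_stGen,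
        PresentedGroup.toGroup.of]⟩
  -- to Steinberg's group
  obtain ⟨SS, hSS⟩ : ∃ SS : Sys hC F (D.SteinbergGroup F),
      SS = StSteinberg.stSys hC (StSteinberg.stHom hC) (StSteinberg.stHom_gen hC) := ⟨_, rfl⟩
  have hSX : SS.X = D.stGen F := hSS ▸ rfl
  have hrels' : ∀ w ∈ D.curtisTitsRels F, FreeGroup.lift
      (fun x : Fin D.nroots × F => if Low D x.1 then D.stGen F x.1 x.2 else 1) w = 1 := by
    have hl : ∀ r, Low D r → ∀ t : F, FreeGroup.lift
        (fun x : Fin D.nroots × F => if Low D x.1 then D.stGen F x.1 x.2 else 1) (D.stX r t) =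
          D.stGen F r t :=
      fun r hr t => by simp [ChevalleyDatum.stX, hr.lt, hr]
    rintro w (((⟨r, t, hr, hno, rfl⟩ | ⟨i, j, r, a, b, hr, rfl⟩) |
      ⟨i, j, r, s, t, u, hr, hs, hne, hnn, rfl⟩) | ⟨i, j, r, a, b, hr, ha, hb', rfl⟩)
    · have : ¬ Low D r := by
        rintro ⟨p, q, hp, hq, h⟩
        exact hno p q ((sub_iff p q r).2 ⟨hp, hq, h⟩)
      simp [ChevalleyDatum.stX, hr, this]
    · obtain ⟨hi, hj, h⟩ := (sub_iff i j r).1 hr
      simp only [map_mul, map_inv, hl r ⟨i, j, hi, hj, h⟩, StSteinberg.stGen_add h.1, mul_inv_cancel]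
    · obtain ⟨hi, hj, hr'⟩ := (sub_iff i j r).1 hr
      obtain ⟨-, -, hs'⟩ := (sub_iff i j s).1 hs
      have hw : FreeGroup.lift
          (fun x : Fin D.nroots × F => if Low D x.1 then D.stGen F x.1 x.2 else 1)
          (D.stWord (D.commWord F r s t u)) =
          ((D.commWord F r s t u).map fun p => D.stGen F p.1 p.2).prod := by
        rw [ChevalleyDatum.stWord, map_list_prod, List.map_map]
        congr 1
        refine List.map_congr_left fun p hp => ?_
        simp only [ChevalleyDatum.commWord, List.mem_map] at hp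
        obtain ⟨c, hc, rfl⟩ := hp
        exact hl _ ⟨i, j, hi, hj, inSub_commTerms hC hN hr' hs' c hc⟩ _
      simp only [map_mul, map_inv, hl r ⟨i, j, hi, hj, hr'⟩, hl s ⟨i, j, hi, hj, hs'⟩, hw]
      rw [mul_assoc _ (D.stGen F s u), StSteinberg.stGen_comm hr'.1 hs'.1 hne hnn]
      group
    · obtain ⟨hi, hj, hr'⟩ := (sub_iff i j r).1 hr
      have hlr : Low D r := ⟨i, j, hi, hj, hr'⟩
      have hh : ∀ c : F, FreeGroup.lift
          (fun x : Fin D.nroots × F => if Low D x.1 then D.stGen F x.1 x.2 else 1) (D.stH r c) =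
          StKernel.hb SS r c := fun c => by
        simp [ChevalleyDatum.stH, ChevalleyDatum.stWord, ChevalleyDatum.hWord, ChevalleyDatum.nWord,
          hl r hlr, hl _ (hlr.neg hC), StKernel.hb, StConj.nb, hSX, mul_assoc]
      simp only [map_mul, map_inv, hh]
      rw [hSS, StSteinberg.stH_mul hC _ _ r hr'.1 a b ha hb', mul_inv_cancel]
  obtain ⟨ψ, hψ⟩ : ∃ ψ : D.CurtisTitsGroup F →* D.SteinbergGroup F,
      ∀ r, Low D r → ∀ t, ψ (ctX D F r t) = D.stGen F r t :=
    ⟨PresentedGroup.toGroup hrels', fun r hr t => by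
      rw [show ctX D F r t = PresentedGroup.of ((⟨r, hr.lt⟩, t) : Fin D.nroots × F) from
        (of_eq_ctX ⟨r, hr.lt⟩ t).symm, PresentedGroup.toGroup.of]
      simp [hr]⟩
  have hψn : ∀ L : List ℕ, (∀ a ∈ L, a < D.rank) → ψ (nbL S L) = StKernel.nbL SS L := by
    intro L
    induction L with
    | nil => intro _; simp [nbL, StKernel.nbL]
    | cons a L ih =>
      intro hL
      have hla := low_simple hC (hL a List.mem_cons_self)
      rw [nbL_cons, StKernel.nbL_cons, map_mul, ih fun b hb => hL b (List.mem_cons_of_mem a hb)]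
      congr 1
      simp [n1, nb, StKernel.n1, StConj.nb, hX, hSX, hψ _ hla, hψ _ (hla.neg hC)]
  have h1 : ψ.comp φ = MonoidHom.id _ := by
    refine PresentedGroup.ext fun x => ?_
    obtain ⟨⟨r, hr⟩, t⟩ := x
    show ψ (φ (PresentedGroup.of (⟨r, hr⟩, t))) = PresentedGroup.of (⟨r, hr⟩, t)
    rw [of_eq_stGen, hφ r hr]
    obtain ⟨hth, L, i, u, hL, hi, e, eg⟩ := Xf_spec S hr t
    rw [eg, map_mul, map_mul, map_inv, hψn L hL, show S.X = ctX D F from hX, hψ _ (low_simple hC hi)]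
    obtain ⟨η, -, h⟩ := StKernel.nbL_conj_x SS hT hL (hC.simple_lt hi)
    have h2 := h u
    rw [e, hSX] at h2
    rw [h2]
    congr 1
    have h3 : SS.th (StKernel.nbL SS L * D.stGen F (D.simple i) u * (StKernel.nbL SS L)⁻¹) =
        S.th (nbL S L * S.X (D.simple i) u * (nbL S L)⁻¹) := by
      rw [← hSX]
      simp only [map_mul, map_inv, StKernel.th_nbL SS hL, th_nbL S hL, SS.th_X _ (hC.simple_lt hi),
        S.th_X _ (low_simple hC hi)]
    rw [← eg, hth, h2, ← hSX, SS.th_X r hr] at h3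
    exact Borel.xg_injective hC hr h3
  have h2 : φ.comp ψ = MonoidHom.id _ := by
    refine PresentedGroup.ext fun x => ?_
    obtain ⟨⟨r, hr⟩, t⟩ := x
    show φ (ψ (PresentedGroup.of (⟨r, hr⟩, t))) = PresentedGroup.of (⟨r, hr⟩, t)
    rw [of_eq_ctX]
    by_cases hl : Low D r
    · rw [hψ r hl, hφ r hr, Xf_low S hK.key hl, hX]
    · rw [ctX_not_low hr hl, map_one, map_one]
  exact ⟨MonoidHom.toMulEquiv ψ φ h2 h1, hψ⟩

end Cfsg.Agent.Chevalley.CT
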